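import Groth.Prelude.Def_EtRam
import Mathlib.RingTheory.Valuation.LocalSubring
import Mathlib.RingTheory.Flat.TorsionFree
import Mathlib.RingTheory.Ideal.MinimalPrime.Localization
import Mathlib.FieldTheory.IntermediateField.Adjoin.Algebra
import Mathlib.RingTheory.Localization.FractionRing
import Mathlib.RingTheory.Flat.Basic

/-! # Solutions for a composite extension of discrete valuation rings -/

set_option autoImplicit false
set_option linter.style.haveILetI false

universe u

open TensorProduct IsLocalRing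

namespace Groth.L05.SolTower

open EtRam

/-- Weak unramifiedness and separability of residue fields pass to a smaller valuation ring. -/
theorem descend {K₁ M M' : Type u} [Field K₁] [Field M] [Field M'] (W' : ValuationSubring M')
    (f : K₁ →+* M) (j : M →+* M') :
    ((letI : Algebra (W'.comap (j.comp f)) W' := (inclOfComap W' (j.comp f)).toAlgebra
      IsWeaklyUnramified (W'.comap (j.comp f)) W') →
     (letI : Algebra ((W'.comap j).comap f) (W'.comap j) := (inclOfComap (W'.comap j) f).toAlgebra
      IsWeaklyUnramified ((W'.comap j).comap f) (W'.comap j))) ∧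
    (@Algebra.IsGeometricallyReduced (ResidueField (W'.comap (j.comp f))) (ResidueField W') _ _
        (ResidueField.map (inclOfComap W' (j.comp f))).toAlgebra →
     @Algebra.IsGeometricallyReduced (ResidueField ((W'.comap j).comap f)) (ResidueField (W'.comap j)) _ _
        (ResidueField.map (inclOfComap (W'.comap j) f)).toAlgebra) := by
  constructor
  · intro h
    letI a₁ : Algebra ((W'.comap j).comap f) (W'.comap j) := (inclOfComap (W'.comap j) f).toAlgebra
    letI a₂ : Algebra (W'.comap (j.comp f)) W' := (inclOfComap W' (j.comp f)).toAlgebra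
    unfold IsWeaklyUnramified at h ⊢
    refine le_antisymm (((local_hom_TFAE _).out 0 2).mp
      (EtRam.isLocalHom_inclOfComap (W'.comap j) f)) fun x hx => ?_
    have hx' : inclOfComap W' j x ∈ maximalIdeal W' :=
      (mem_maximalIdeal _).mpr fun hu => (mem_maximalIdeal _).mp hx (isUnit_of_map_unit _ _ hu)
    rw [← h, Ideal.map] at hx'
    obtain ⟨n, c, u, hu⟩ := (Submodule.mem_span_set').mp hx'
    choose a ha hau using fun i => (u i).2
    haveI : ValuationRing (W'.comap (j.comp f)) := inferInstance
    by_cases hz : ∀ i, a i = 0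
    · have : inclOfComap W' j x = 0 := by
        rw [← hu]
        exact Finset.sum_eq_zero fun i _ => by rw [← hau i, hz i, map_zero, smul_zero]
      have hx0 : x = 0 := Subtype.ext (j.injective (by
        simpa using congrArg Subtype.val this))
      rw [hx0]
      exact zero_mem _
    · push Not at hz
      obtain ⟨i₀, hi₀⟩ := hz
      obtain ⟨k, hk, hdiv⟩ : ∃ k, a k ≠ 0 ∧ ∀ i, a k ∣ a i := by
        classical
        suffices ∀ s : Finset (Fin n), ∃ k, a k ≠ 0 ∧ ∀ i ∈ s, a k ∣ a i by
          obtain ⟨k, hk, hd⟩ := this Finset.univ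
          exact ⟨k, hk, fun i => hd i (Finset.mem_univ _)⟩
        intro s
        induction s using Finset.induction_on with
        | empty => exact ⟨i₀, hi₀, by simp⟩
        | @insert b s hb ih =>
          obtain ⟨k, hk, hd⟩ := ih
          rcases ValuationRing.dvd_total (a k) (a b) with h1 | h1
          · exact ⟨k, hk, fun i hi => (Finset.mem_insert.mp hi).elim (fun e => e ▸ h1) (hd i)⟩
          · exact ⟨b, fun e => hk (zero_dvd_iff.mp (e ▸ h1)),
              fun i hi => (Finset.mem_insert.mp hi).elim (fun e => e ▸ dvd_rfl) (fun hi => h1.trans (hd i hi))⟩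
      choose d hd using hdiv
      obtain ⟨w, hw⟩ : ∃ w : W', inclOfComap W' j x = inclOfComap W' (j.comp f) (a k) * w := by
        refine ⟨∑ i, c i * inclOfComap W' (j.comp f) (d i), ?_⟩
        rw [← hu, Finset.mul_sum]
        refine Finset.sum_congr rfl fun i _ => ?_
        rw [← hau i, smul_eq_mul]
        show c i * inclOfComap W' (j.comp f) (a i) = _
        rw [hd i, map_mul]
        ring
      have hf0 : f (a k : K₁) ≠ 0 := fun h0 => hk (Subtype.ext (f.injective (by simpa using h0)))
      have hw' : j (x : M) / j (f (a k : K₁)) = (w : M') := by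
        rw [div_eq_iff (fun h0 => hf0 (j.injective (by simpa using h0))), mul_comm]
        exact congrArg Subtype.val hw
      have hmem : (x : M) / f (a k : K₁) ∈ W'.comap j := by
        show j _ ∈ W'
        rw [map_div₀, hw']
        exact w.2
      have hxe : x = algebraMap ((W'.comap j).comap f) (W'.comap j) ⟨a k, (a k).2⟩ * ⟨_, hmem⟩ :=
        Subtype.ext (mul_div_cancel₀ (x : M) hf0).symm
      rw [hxe]
      refine Ideal.mul_mem_right _ _ (Ideal.mem_map_of_mem _ ((mem_maximalIdeal _).mpr fun hu => ?_))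
      refine (mem_maximalIdeal _).mp (ha k) ?_
      obtain ⟨v, hv⟩ := hu
      exact ⟨⟨⟨_, (v : (W'.comap j).comap f).2⟩, ⟨_, ((v⁻¹ : ((W'.comap j).comap f)ˣ) : (W'.comap j).comap f).2⟩,
        Subtype.ext (congrArg Subtype.val v.mul_inv), Subtype.ext (congrArg Subtype.val v.inv_mul)⟩,
        Subtype.ext (congrArg Subtype.val hv)⟩
  · intro h
    letI a₁ : Algebra (ResidueField ((W'.comap j).comap f)) (ResidueField (W'.comap j)) :=
      (ResidueField.map (inclOfComap (W'.comap j) f)).toAlgebra
    letI a₂ : Algebra (ResidueField ((W'.comap j).comap f)) (ResidueField W') :=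
      (ResidueField.map (inclOfComap W' (j.comp f))).toAlgebra
    haveI : Algebra.IsGeometricallyReduced (ResidueField ((W'.comap j).comap f)) (ResidueField W') := h
    refine Algebra.IsGeometricallyReduced.of_injective
      ({ ResidueField.map (inclOfComap W' j) with
        commutes' := fun r => ?_ } : ResidueField (W'.comap j) →ₐ[_] ResidueField W')
      (RingHom.injective (ResidueField.map (inclOfComap W' j)))
    obtain ⟨r, rfl⟩ := IsLocalRing.residue_surjective r
    rfl

/-- A valuation ring of a finite extension lifts to a compositum with a bigger valued field. -/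
theorem exists_lift (B C L M₀ : Type u) [CommRing B] [IsDomain B] [IsDiscreteValuationRing B] [CommRing C]
    [IsDomain C] [IsDiscreteValuationRing C] [Algebra B C] [IsLocalHom (algebraMap B C)]
    (hinj : Function.Injective (algebraMap B C)) [Field L] [Field M₀] [Algebra B L] [IsFractionRing B L]
    [Algebra C M₀] [IsFractionRing C M₀] [Algebra L M₀] [Algebra B M₀] [IsScalarTower B C M₀] [IsScalarTower B L M₀]
    {M : Type u} [Field M] [Algebra L M] (W : ValuationSubring M)
    (hW : Dominates B ((algebraMap L M).comp (algebraMap B L)) W) :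
    ∃ (Ω : Type u) (_ : Field Ω) (j₀ : M₀ →+* Ω) (j : M →+* Ω) (V : ValuationSubring Ω),
      (∀ l : L, j₀ (algebraMap L M₀ l) = j (algebraMap L M l)) ∧
      Dominates C (j₀.comp (algebraMap C M₀)) V ∧ V.comap j = W := by
  letI aW : Algebra B W := (((algebraMap L M).comp (algebraMap B L)).codRestrict W.toSubring hW.1).toAlgebra
  haveI : IsLocalHom (algebraMap B W) := ⟨fun b hb => by
    by_contra hb'
    have h1 := hW.2 b ((mem_maximalIdeal _).mpr hb')
    exact (ValuationSubring.valuation_lt_one_iff W ⟨_, hW.1 b⟩).mpr h1 |> fun h2 => (mem_maximalIdeal _).mp h2 hb⟩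
  have hinjW : Function.Injective (algebraMap B W) := fun a b hab =>
    IsFractionRing.injective B L ((algebraMap L M).injective (congrArg Subtype.val hab))
  haveI : Module.IsTorsionFree B W := Module.isTorsionFree_iff_algebraMap_injective.mpr hinjW
  haveI : Module.IsTorsionFree B C := Module.isTorsionFree_iff_algebraMap_injective.mpr hinj
  haveI : Module.Flat B W := inferInstance
  haveI : Module.Flat B C := inferInstance
  -- a prime over both closed points
  let Φ : C ⊗[B] W →ₐ[B] ResidueField C ⊗[ResidueField B] ResidueField W :=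
    Algebra.TensorProduct.lift
      (((Algebra.TensorProduct.includeLeft : ResidueField C →ₐ[ResidueField B]
        ResidueField C ⊗[ResidueField B] ResidueField W).restrictScalars B).comp (IsScalarTower.toAlgHom B C _))
      (((Algebra.TensorProduct.includeRight : ResidueField W →ₐ[ResidueField B]
        ResidueField C ⊗[ResidueField B] ResidueField W).restrictScalars B).comp (IsScalarTower.toAlgHom B W _))
      (fun _ _ => Commute.all _ _)
  haveI : Nontrivial (ResidueField C ⊗[ResidueField B] ResidueField W) :=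
    (Algebra.TensorProduct.includeLeft_injective (S := ResidueField B)
      (RingHom.injective (algebraMap (ResidueField B) (ResidueField W)))).nontrivial
  obtain ⟨Q, hQ⟩ := Ideal.exists_maximal (ResidueField C ⊗[ResidueField B] ResidueField W)
  let q : Ideal (C ⊗[B] W) := Q.comap Φ
  haveI : q.IsPrime := Ideal.comap_isPrime _ _
  have hqC : ∀ c ∈ maximalIdeal C, c ⊗ₜ[B] (1 : W) ∈ q := fun c hc => by
    show Φ _ ∈ Q
    simp [Φ, (IsLocalRing.residue_eq_zero_iff c).mpr hc]
  have hqW : ∀ w ∈ maximalIdeal W, (1 : C) ⊗ₜ[B] w ∈ q := fun w hw => by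
    show Φ _ ∈ Q
    simp [Φ, (IsLocalRing.residue_eq_zero_iff w).mpr hw]
  obtain ⟨P, hP, hPq⟩ := Ideal.exists_minimalPrimes_le (I := (⊥ : Ideal (C ⊗[B] W))) (J := q) bot_le
  haveI : P.IsPrime := hP.1.1
  have hnzd : ∀ {x : C ⊗[B] W}, (∀ y, x * y = 0 → y = 0) → x ∉ P := fun {x} hx hxP =>
    Set.disjoint_left.mp (Ideal.disjoint_nonZeroDivisors_of_mem_minimalPrimes hP) hxP
      (mem_nonZeroDivisors_iff.mpr ⟨hx, fun y hy => hx y (by rwa [mul_comm])⟩)
  have hC0 : ∀ c : C, c ≠ 0 → c ⊗ₜ[B] (1 : W) ∉ P := fun c hc => hnzd fun y hy => by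
    refine Module.Flat.rTensor_preserves_injective_linearMap (M := W) ((LinearMap.mul B C) c)
      (mul_right_injective₀ hc) ?_
    have key : ∀ z, ((LinearMap.mul B C) c).rTensor W z = c ⊗ₜ[B] (1 : W) * z := fun z => by
      induction z with
      | zero => simp
      | tmul a w => simp
      | add a b ha hb => rw [map_add, mul_add, ha, hb]
    rw [map_zero, key, hy]
  have hW0 : ∀ w : W, w ≠ 0 → (1 : C) ⊗ₜ[B] w ∉ P := fun w hw => hnzd fun y hy => by
    refine Module.Flat.lTensor_preserves_injective_linearMap (M := C) ((LinearMap.mul B W) w)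
      (mul_right_injective₀ hw) ?_
    have key : ∀ z, ((LinearMap.mul B W) w).lTensor C z = (1 : C) ⊗ₜ[B] w * z := fun z => by
      induction z with
      | zero => simp
      | tmul a v => simp
      | add a b ha hb => rw [map_add, mul_add, ha, hb]
    rw [map_zero, key, hy]
  let Ω := FractionRing ((C ⊗[B] W) ⧸ P)
  let π : C ⊗[B] W →+* Ω := (algebraMap ((C ⊗[B] W) ⧸ P) Ω).comp (Ideal.Quotient.mk P)
  have hπ : ∀ z, π z = 0 ↔ z ∈ P := fun z => by
    show algebraMap _ Ω (Ideal.Quotient.mk P z) = 0 ↔ _
    rw [IsFractionRing.to_map_eq_zero_iff, Ideal.Quotient.eq_zero_iff_mem]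
  let gC : C →+* Ω := π.comp Algebra.TensorProduct.includeLeftRingHom
  let gW : W →+* Ω := π.comp (Algebra.TensorProduct.includeRight : W →ₐ[B] C ⊗[B] W).toRingHom
  have hgC : Function.Injective gC := (injective_iff_map_eq_zero _).mpr fun c hc =>
    by_contra fun h0 => hC0 c h0 ((hπ _).mp hc)
  have hgW : Function.Injective gW := (injective_iff_map_eq_zero _).mpr fun w hw =>
    by_contra fun h0 => hW0 w h0 ((hπ _).mp hw)
  let j₀ : M₀ →+* Ω := IsFractionRing.lift hgC
  let j : M →+* Ω := IsFractionRing.lift (A := W) hgW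
  have hne : q.map π.rangeRestrict ≠ ⊤ := by
    intro h
    obtain ⟨z, hz, h1⟩ := (Ideal.mem_map_iff_of_surjective _ π.rangeRestrict_surjective).mp
      (h ▸ Submodule.mem_top : (1 : π.range) ∈ q.map π.rangeRestrict)
    have h2 : z - 1 ∈ P := (hπ _).mp (by
      rw [map_sub, map_one, sub_eq_zero]; exact congrArg Subtype.val h1)
    exact Ideal.IsPrime.ne_top ‹q.IsPrime› ((Ideal.eq_top_iff_one q).mpr (by simpa using sub_mem hz (hPq h2)))
  obtain ⟨V, hle, hV⟩ := Ideal.image_subset_nonunits_valuationSubring (q.map π.rangeRestrict) hne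
  have hVπ : ∀ z, π z ∈ V := fun z => hle (RingHom.mem_range.mpr ⟨z, rfl⟩)
  have hVq : ∀ z ∈ q, π z ∈ V.nonunits := fun z hz => hV ⟨_, Ideal.mem_map_of_mem _ hz, rfl⟩
  refine ⟨Ω, inferInstance, j₀, j, V, ?_, ⟨fun c => ?_, fun c hc => ?_⟩, ?_⟩
  · refine RingHom.congr_fun (show j₀.comp (algebraMap L M₀) = j.comp (algebraMap L M) from ?_)
    refine IsLocalization.ringHom_ext (nonZeroDivisors B) (RingHom.ext fun b => ?_)
    show j₀ (algebraMap L M₀ (algebraMap B L b)) = j (algebraMap W M (algebraMap B W b))
    rw [← IsScalarTower.algebraMap_apply B L M₀, IsScalarTower.algebraMap_apply B C M₀,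
      IsFractionRing.lift_algebraMap, IsFractionRing.lift_algebraMap]
    show π (algebraMap B C b ⊗ₜ[B] (1 : W)) = π ((1 : C) ⊗ₜ[B] algebraMap B W b)
    rw [Algebra.algebraMap_eq_smul_one, Algebra.algebraMap_eq_smul_one, smul_tmul]
  · show j₀ (algebraMap C M₀ c) ∈ V
    rw [IsFractionRing.lift_algebraMap]
    exact hVπ _
  · show V.valuation (j₀ (algebraMap C M₀ c)) < 1
    rw [IsFractionRing.lift_algebraMap]
    exact (ValuationSubring.mem_nonunits_iff (A := V)).mp (hVq _ (hqC c hc))
  · ext x
    show j x ∈ V ↔ x ∈ W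
    constructor
    · intro hx
      by_contra hxW
      have hinv : x⁻¹ ∈ W := (W.mem_or_inv_mem x).resolve_left hxW
      have hm : (⟨_, hinv⟩ : W) ∈ maximalIdeal W := (mem_maximalIdeal _).mpr fun hu => by
        obtain ⟨v, hv⟩ := hu
        refine hxW ?_
        have h1 : x⁻¹ * ((↑(v⁻¹) : W) : M) = 1 := by
          have := congrArg Subtype.val v.mul_inv
          rw [hv] at this
          exact this
        rw [show x = ((↑(v⁻¹) : W) : M) by rw [← eq_inv_of_mul_eq_one_right h1 |>.symm, inv_inv]]
        exact SetLike.coe_mem _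
      have h2 := (ValuationSubring.mem_nonunits_iff (A := V)).mp (hVq _ (hqW _ hm))
      have h3 : π ((1 : C) ⊗ₜ[B] (⟨_, hinv⟩ : W)) = (j x)⁻¹ := by
        rw [← map_inv₀]
        exact (IsFractionRing.lift_algebraMap (A := W) (K := M) hgW ⟨_, hinv⟩).symm
      rw [h3, map_inv₀] at h2
      have h4 := (V.valuation_le_one_iff _).mpr hx
      rcases eq_or_ne (j x) 0 with h0 | h0
      · exact hxW (by rw [(map_eq_zero j).mp h0]; exact zero_mem _)
      · exact not_lt.mpr h4 (by
          rwa [inv_lt_one₀ (zero_lt_iff.mpr ((map_ne_zero _).mpr h0))] at h2)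
    · intro hx
      rw [show j x = gW ⟨x, hx⟩ from IsFractionRing.lift_algebraMap (A := W) (K := M) hgW ⟨x, hx⟩]
      exact hVπ _

/-- Fields receiving `L` and `K₁` lift along `L → M₀`. -/
theorem exists_upper (B C K L M₀ K₁ : Type u) [CommRing B] [IsDomain B] [IsDiscreteValuationRing B]
    [CommRing C] [IsDomain C] [IsDiscreteValuationRing C] [Algebra B C] [IsLocalHom (algebraMap B C)]
    (hinj : Function.Injective (algebraMap B C))
    [Field K] [Field L] [Field M₀] [Field K₁] [Algebra K L] [Algebra K M₀] [Algebra L M₀] [IsScalarTower K L M₀]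
    [Algebra K K₁] [FiniteDimensional K K₁] [Algebra B L] [IsFractionRing B L]
    [Algebra C M₀] [IsFractionRing C M₀] [Algebra B M₀] [IsScalarTower B C M₀] [IsScalarTower B L M₀]
    (P : ∀ (M : Type u) [Field M], ValuationSubring M → (K₁ →+* M) → Prop)
    (hP : ∀ (M M' : Type u) [Field M] [Field M'] (W' : ValuationSubring M') (f : K₁ →+* M) (j : M →+* M'),
      P M' W' (j.comp f) → P M (W'.comap j) f)
    (h : ForallLocalExt C K M₀ K₁ P) : ForallLocalExt B K L K₁ P := by
  intro M _ _ _ _ _ _ hgen W hW
  obtain ⟨Ω, _, j₀, j, V, hjL, hdom, hVW⟩ := exists_lift B C L M₀ hinj W hW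
  letI : Algebra M₀ Ω := j₀.toAlgebra
  letI : Algebra K Ω := (j₀.comp (algebraMap K M₀)).toAlgebra
  letI : Algebra K₁ Ω := (j.comp (algebraMap K₁ M)).toAlgebra
  haveI : IsScalarTower K M₀ Ω := IsScalarTower.of_algebraMap_eq fun _ => rfl
  haveI : IsScalarTower K K₁ Ω := IsScalarTower.of_algebraMap_eq fun k => by
    show j₀ (algebraMap K M₀ k) = j (algebraMap K₁ M (algebraMap K K₁ k))
    rw [← IsScalarTower.algebraMap_apply K K₁ M, IsScalarTower.algebraMap_apply K L M₀, hjL,
      ← IsScalarTower.algebraMap_apply]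
  let S : Set Ω := Set.range (algebraMap K₁ Ω)
  let F := IntermediateField.adjoin M₀ S
  have halg : ∀ y ∈ S, IsAlgebraic M₀ y := by
    rintro _ ⟨y, rfl⟩
    exact (((IsIntegral.of_finite K y).map (IsScalarTower.toAlgHom K K₁ Ω)).tower_top (A := M₀)).isAlgebraic
  have hjM : ∀ z : M, j z ∈ F := by
    intro z
    have hz : z ∈ Algebra.adjoin L (Set.range (algebraMap K₁ M)) := hgen ▸ Algebra.mem_top
    induction hz using Algebra.adjoin_induction with
    | mem z hz => obtain ⟨y, rfl⟩ := hz; exact IntermediateField.subset_adjoin _ _ ⟨y, rfl⟩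
    | algebraMap l => rw [← hjL]; exact F.algebraMap_mem _
    | add a b _ _ ha hb => rw [map_add]; exact add_mem ha hb
    | mul a b _ _ ha hb => rw [map_mul]; exact mul_mem ha hb
  let jF : M →+* F := j.codRestrict F hjM
  letI : Algebra K₁ F := (jF.comp (algebraMap K₁ M)).toAlgebra
  haveI : IsScalarTower K K₁ F := IsScalarTower.of_algebraMap_eq fun k =>
    Subtype.ext (IsScalarTower.algebraMap_apply K K₁ Ω k)
  have hgen' : Algebra.adjoin M₀ (Set.range (algebraMap K₁ F)) = ⊤ := by
    refine top_le_iff.mp fun z _ => ?_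
    have hz : (z : Ω) ∈ Algebra.adjoin M₀ S := by
      rw [← IntermediateField.adjoin_toSubalgebra_of_isAlgebraic halg]
      exact z.2
    have himg : S = F.val '' Set.range (algebraMap K₁ F) := by
      rw [← Set.range_comp]; rfl
    rw [himg, ← AlgHom.map_adjoin] at hz
    obtain ⟨z', hz', he⟩ := hz
    exact Subtype.ext he ▸ hz'
  have hres := h F hgen' (V.comap (algebraMap F Ω)) ⟨fun c => hdom.1 c, fun c hc => ?_⟩
  · rw [← hVW]
    exact hP M F (V.comap (algebraMap F Ω)) (algebraMap K₁ M) jF hres
  · have h1 := hdom.2 c hc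
    have h2 := hdom.1 c
    refine (ValuationSubring.valuation_lt_one_iff (V.comap (algebraMap F Ω))
      ⟨algebraMap M₀ F (algebraMap C M₀ c), h2⟩).mp ((mem_maximalIdeal _).mpr fun hu => ?_)
    have h3 := (ValuationSubring.valuation_lt_one_iff V ⟨_, h2⟩).mpr h1
    exact (mem_maximalIdeal _).mp h3 (hu.map (inclOfComap V (algebraMap F Ω)))

end Groth.L05.SolTower
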